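import Groth.Agent.L22.GV.Main
import Groth.Agent.L00.StalkFunctor
import Groth.Prelude.Def_CohB1
import Groth.Prelude.Def_Coh

/-! Cohomology above the dimension of a support given by codimensions. -/

set_option autoImplicit false
set_option linter.style.haveILetI false
set_option backward.isDefEq.respectTransparency false
set_option backward.isDefEq.respectTransparency.types false
set_option backward.defeqAttrib.useBackward true

universe u

open CategoryTheory CategoryTheory.Limits AlgebraicGeometry TopologicalSpace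

namespace Groth.L10.FMK

variable {Y : Scheme.{u}}

theorem height_add_coheight_le {α : Type*} [Preorder α] (a : α) :
    ((Order.height a + Order.coheight a : ℕ∞) : WithBot ℕ∞) ≤ Order.krullDim α := by
  haveI : Nonempty α := ⟨a⟩
  rw [Order.krullDim_eq_iSup_height_add_coheight_of_nonempty]
  exact WithBot.coe_le_coe.2 (le_iSup (fun b : α => Order.height b + Order.coheight b) a)

theorem krullDim_points : topologicalKrullDim ↥Y = Order.krullDim ↥Y := by
  letI : PartialOrder ↥Y := specializationOrder ↥Y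
  exact Order.krullDim_eq_of_orderIso (irreducibleSetEquivPoints (α := ↥Y))

/-- the closure of a point has dimension at most its height -/
theorem cdim_le_height (y : Y) :
    Groth.L22.GV.cdim (X := Y.toTopCat) y ≤ (Order.height y : WithBot ℕ∞) := by
  haveI : QuasiSober (closure ({y} : Set ↥Y)) :=
    (isClosed_closure.isClosedEmbedding_subtypeVal).quasiSober
  letI : PartialOrder (closure ({y} : Set ↥Y)) := specializationOrder _
  rw [Groth.L22.GV.cdim, Order.height_eq_krullDim_Iic]
  refine Order.krullDim_le_of_strictMono (fun z => ⟨(irreducibleSetEquivPoints (α := closure ({y} : Set ↥Y)) z).1,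
    specializes_iff_mem_closure.2 (irreducibleSetEquivPoints (α := closure ({y} : Set ↥Y)) z).2⟩) fun a b h => ?_
  have e := @RelIso.map_rel_iff _ _ _ _ (irreducibleSetEquivPoints (α := closure ({y} : Set ↥Y)))
  refine lt_iff_le_not_ge.2 ⟨(subtype_specializes_iff (irreducibleSetEquivPoints (α := closure ({y} : Set ↥Y)) b) (irreducibleSetEquivPoints a)).1 (e.2 h.le), fun hb => h.not_ge (e.1 ?_)⟩
  exact (subtype_specializes_iff (irreducibleSetEquivPoints (α := closure ({y} : Set ↥Y)) a) (irreducibleSetEquivPoints b)).2 hb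

/-- a sheaf supported in codimension `≥ c` has no cohomology above `g - c` on a space of dimension `≤ g` -/
theorem subsingleton_HH_of_codim [NoetherianSpace ↥Y] {g : ℕ} (hg : topologicalKrullDim ↥Y ≤ (g : WithBot ℕ∞))
    (M : Y.Modules) (c : ℕ)
    (hM : ∀ y : Y, y ∈ CohB1.support M → (c : WithBot ℕ∞) ≤ ringKrullDim ↑(Y.presheaf.stalk y))
    (p : ℕ) (hp : g < c + p) (hp0 : 0 < p) : Subsingleton (Coh.HH Y M p) := by
  haveI : NoetherianSpace Y.toTopCat := ‹NoetherianSpace ↥Y›
  haveI : QuasiSober Y.toTopCat := inferInstanceAs (QuasiSober ↥Y)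
  haveI : T0Space Y.toTopCat := inferInstanceAs (T0Space ↥Y)
  refine Groth.L22.GV.subsingleton_H_of_dimLE (p - 1) (Coh.toAb M) (fun y hy => ?_) p (by omega)
  by_contra hne
  have hc := hM y hne
  rw [ringKrullDim_stalk_eq_coheight] at hc
  have h1 := (height_add_coheight_le y).trans (krullDim_points.symm.trans_le hg)
  have h2 := hy.trans_le (cdim_le_height y)
  generalize Order.height y = a at h1 h2
  generalize Order.coheight y = b at h1 hc
  change ((((p - 1 : ℕ) : ℕ∞)) : WithBot ℕ∞) < (a : WithBot ℕ∞) at h2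
  change (((c : ℕ) : ℕ∞) : WithBot ℕ∞) ≤ (b : WithBot ℕ∞) at hc
  change ((a + b : ℕ∞) : WithBot ℕ∞) ≤ (((g : ℕ) : ℕ∞) : WithBot ℕ∞) at h1
  rw [WithBot.coe_le_coe] at h1 hc
  rw [WithBot.coe_lt_coe] at h2
  have hg' : ((p - 1 : ℕ) : ℕ∞) + 1 + (c : ℕ∞) ≤ (g : ℕ∞) :=
    (add_le_add (Order.add_one_le_of_lt h2) hc).trans h1
  norm_cast at hg'
  omega

/-- above the dimension the module vanishes -/
theorem isZero_of_codim {g : ℕ} (hg : topologicalKrullDim ↥Y ≤ (g : WithBot ℕ∞)) (M : Y.Modules) (c : ℕ)
    (hM : ∀ y : Y, y ∈ CohB1.support M → (c : WithBot ℕ∞) ≤ ringKrullDim ↑(Y.presheaf.stalk y))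
    (hc : g < c) : IsZero M := by
  refine (Groth.L00.Stk.isZero_iff M).2 fun y => ?_
  refine @ModuleCat.isZero_of_subsingleton _ _ _ (not_not.1 fun hne => ?_)
  have hcb := hM y hne
  rw [ringKrullDim_stalk_eq_coheight] at hcb
  have h1 := (height_add_coheight_le y).trans (krullDim_points.symm.trans_le hg)
  generalize Order.height y = a at h1
  generalize Order.coheight y = b at h1 hcb
  change (((c : ℕ) : ℕ∞) : WithBot ℕ∞) ≤ (b : WithBot ℕ∞) at hcb
  change ((a + b : ℕ∞) : WithBot ℕ∞) ≤ (((g : ℕ) : ℕ∞) : WithBot ℕ∞) at h1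
  rw [WithBot.coe_le_coe] at h1 hcb
  have : (c : ℕ∞) ≤ (g : ℕ∞) := (hcb.trans le_add_self).trans h1
  norm_cast at this
  omega

end Groth.L10.FMK
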