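import Groth.Agent.L29.DCoh.RDerLE
import Groth.Agent.L00.RDerLES

/-! Right derived functors on bounded objects with acyclic cohomology objects. -/

universe w w' v v' u u'

open CategoryTheory CategoryTheory.Limits CategoryTheory.Pretriangulated DerivedCategory

set_option autoImplicit false
set_option backward.defeqAttrib.useBackward true
set_option backward.isDefEq.respectTransparency false
set_option linter.style.haveILetI false

namespace Groth.L10.FMK

open Groth.L10

variable {A : Type u} [Category.{v} A] [Abelian A] [HasDerivedCategory.{w} A] [KInjDerived.EnoughKInjectives A]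
  [HasInjectiveResolutions A] [EnoughInjectives A]
  {B : Type u'} [Category.{v'} B] [Abelian B] [HasDerivedCategory.{w'} B] {F : A ⥤ B} [F.Additive]
  {RF : DerivedCategory A ⥤ DerivedCategory B}
  (α : F.mapHomotopyCategory (ComplexShape.up ℤ) ⋙ Qh ⟶ Qh ⋙ RF)
  [RF.IsRightDerivedFunctor α (HomotopyCategory.quasiIso A (ComplexShape.up ℤ))]

local notation "tt" => DerivedCategory.TStructure.t

include α in
/-- the cohomology is computed by the cohomology objects -/
theorem nonempty_H_iso (b : ℤ) : ∀ (n : ℕ) (Y : DerivedCategory A), Y.IsGE (b + 1 - n) → Y.IsLE b →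
    (∀ i : ℤ, ∀ p : ℕ, IsZero ((F.rightDerived (p + 1)).obj ((homologyFunctor A i).obj Y))) →
    ∀ j : ℤ, Nonempty ((homologyFunctor B j).obj (RF.obj Y) ≅
      (F.rightDerived 0).obj ((homologyFunctor A j).obj Y)) := by
  haveI : ∀ p : ℕ, (F.rightDerived p).Additive := fun p => Groth.L00.RDerLES.additive F p
  haveI : ∀ p : ℕ, (F.rightDerived p).PreservesZeroMorphisms := fun p =>
    Functor.preservesZeroMorphisms_of_additive _
  intro n
  induction n with
  | zero =>
    intro Y hY hle _ j
    have hz : ∀ i : ℤ, IsZero ((homologyFunctor A i).obj Y) := fun i => by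
      by_cases hi : i ≤ b
      · exact DerivedCategory.isZero_of_isGE Y (b + 1 - (0 : ℕ)) i (by omega)
      · exact DerivedCategory.isZero_of_isLE Y b i (by omega)
    have hQ : Y.IsGE (j + 1) := by
      rw [DerivedCategory.isGE_iff]
      exact fun i _ => hz i
    have := RDerBound.isGE_obj α Y (j + 1)
    exact ⟨(DerivedCategory.isZero_of_isGE _ (j + 1) j (by omega)).iso ((F.rightDerived 0).map_isZero (hz j))⟩
  | succ n ih =>
    intro Y hY hle h j
    let a := b + 1 - (n + 1 : ℕ)
    let L := ((tt).truncLT (a + 1)).obj Y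
    let R := ((tt).truncGE (a + 1)).obj Y
    have hLle : L.IsLE a := (tt).isLE_truncLT_obj _ _ _ (by omega)
    have hLge : L.IsGE a := by
      rw [DerivedCategory.isGE_iff]
      intro i hi
      have := isIso_H_ι (a + 1) i (by omega) Y
      exact (DerivedCategory.isZero_of_isGE Y a i hi).of_iso
        (asIso ((homologyFunctor A i).map (((tt).truncLTι (a + 1)).app Y)))
    obtain ⟨δ, hT⟩ := RDerTri.exists_triangle α _ ((tt).triangleLTGE_distinguished (a + 1) Y)
    have hRle : R.IsLE b := by
      rw [DerivedCategory.isLE_iff]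
      intro i hi
      by_cases hi' : a + 1 ≤ i
      · have := L10.isIso_H_π (a + 1) i hi' Y
        exact (DerivedCategory.isZero_of_isLE Y b i hi).of_iso
          (asIso ((homologyFunctor A i).map (((tt).truncGEπ (a + 1)).app Y))).symm
      · exact isZero_H_GE (a + 1) i (by omega) Y
    have hRge : R.IsGE (b + 1 - n) := by
      rw [show b + 1 - (n : ℤ) = a + 1 by simp only [a]; push_cast; omega]
      infer_instance
    have hR : ∀ i : ℤ, Nonempty ((homologyFunctor B i).obj (RF.obj R) ≅
        (F.rightDerived 0).obj ((homologyFunctor A i).obj R)) := by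
      refine ih R hRge hRle fun i p => ?_
      by_cases hi : a + 1 ≤ i
      · have := L10.isIso_H_π (a + 1) i hi Y
        exact (h i p).of_iso ((F.rightDerived (p + 1)).mapIso
          (asIso ((homologyFunctor A i).map (((tt).truncGEπ (a + 1)).app Y))).symm)
      · exact Functor.map_isZero _ (isZero_H_GE (a + 1) i (by omega) Y)
    obtain ⟨e⟩ := exists_iso_single_H L a
    let M := (homologyFunctor A a).obj L
    obtain ⟨e'⟩ := RDerTri.nonempty_obj_shift α ((singleFunctor A 0).obj M) (-a)
    let E : ∀ i : ℤ, (homologyFunctor B i).obj (RF.obj L) ≅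
        (homologyFunctor B (i - a)).obj (RF.obj ((singleFunctor A 0).obj M)) := fun i =>
      (homologyFunctor B i).mapIso (RF.mapIso e) ≪≫
        (homologyFunctor B i).mapIso (RF.mapIso (((singleFunctors A).shiftIso (-a) a 0 (by omega)).symm.app M) ≪≫ e') ≪≫
          hShiftIso _ (-a) i (i - a) (by omega)
    obtain ⟨hge, hp⟩ := RDerTri.isGE_single α M
    have hMi : IsIso ((homologyFunctor A a).map (((tt).truncLTι (a + 1)).app Y)) := isIso_H_ι (a + 1) a (by omega) Y
    have hL0 : ∀ i : ℤ, i ≠ a → IsZero ((homologyFunctor B i).obj (RF.obj L)) := by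
      intro i hi
      refine IsZero.of_iso ?_ (E i)
      by_cases hlt : i - a < 0
      · exact DerivedCategory.isZero_of_isGE _ 0 (i - a) hlt
      · obtain ⟨p, hp'⟩ : ∃ p : ℕ, ((p + 1 : ℕ) : ℤ) = i - a := ⟨(i - a).toNat - 1, by omega⟩
        rw [← hp']
        exact ((h a p).of_iso ((F.rightDerived (p + 1)).mapIso
          (asIso ((homologyFunctor A a).map (((tt).truncLTι (a + 1)).app Y))))).of_iso (hp (p + 1)).some
    have := RDerBound.isGE_obj α R (a + 1)
    have hR0 : ∀ i : ℤ, i < a + 1 → IsZero ((homologyFunctor B i).obj (RF.obj R)) := fun i hi =>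
      DerivedCategory.isZero_of_isGE _ (a + 1) i hi
    by_cases hja : a < j
    · -- above the bottom degree
      haveI hmono : Mono ((homologyFunctor B j).map (RF.map (((tt).truncGEπ (a + 1)).app Y))) :=
        (HomologySequence.mono_homologyMap_mor₂_iff _ hT j).2 ((hL0 j (by omega)).eq_of_src _ _)
      haveI hepi : Epi ((homologyFunctor B j).map (RF.map (((tt).truncGEπ (a + 1)).app Y))) :=
        (HomologySequence.epi_homologyMap_mor₂_iff _ hT j (j + 1) rfl).2 ((hL0 (j + 1) (by omega)).eq_of_tgt _ _)
      have := isIso_of_mono_of_epi ((homologyFunctor B j).map (RF.map (((tt).truncGEπ (a + 1)).app Y)))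
      have := L10.isIso_H_π (a + 1) j (by omega) Y
      exact ⟨asIso ((homologyFunctor B j).map (RF.map (((tt).truncGEπ (a + 1)).app Y))) ≪≫ (hR j).some ≪≫
        (F.rightDerived 0).mapIso (asIso ((homologyFunctor A j).map (((tt).truncGEπ (a + 1)).app Y))).symm⟩
    · haveI hmono : Mono ((homologyFunctor B j).map (RF.map (((tt).truncLTι (a + 1)).app Y))) :=
        (HomologySequence.mono_homologyMap_mor₁_iff _ hT (j - 1) j (by omega)).2
        ((hR0 (j - 1) (by omega)).eq_of_src _ _)
      haveI hepi : Epi ((homologyFunctor B j).map (RF.map (((tt).truncLTι (a + 1)).app Y))) :=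
        (HomologySequence.epi_homologyMap_mor₁_iff _ hT j).2 ((hR0 j (by omega)).eq_of_tgt _ _)
      have := isIso_of_mono_of_epi ((homologyFunctor B j).map (RF.map (((tt).truncLTι (a + 1)).app Y)))
      by_cases hj : j = a
      · subst hj
        exact ⟨(asIso ((homologyFunctor B a).map (RF.map (((tt).truncLTι (a + 1)).app Y)))).symm ≪≫ E a ≪≫
          (homologyFunctor B (a - a)).mapIso (Iso.refl _) ≪≫
          eqToIso (by rw [sub_self]; rfl) ≪≫ (hp 0).some ≪≫
          (F.rightDerived 0).mapIso (asIso ((homologyFunctor A a).map (((tt).truncLTι (a + 1)).app Y)))⟩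
      · exact ⟨((hL0 j hj).of_iso (asIso ((homologyFunctor B j).map (RF.map (((tt).truncLTι (a + 1)).app Y)))).symm).iso
          ((F.rightDerived 0).map_isZero (DerivedCategory.isZero_of_isGE Y a j (by omega)))⟩

end Groth.L10.FMK
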