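import Groth.Agent.L10.FMBC.Comp
import Groth.Agent.L10.FMDiag.Basic
import Groth.Agent.L29.DCoh.ProjFormulaD
import Groth.Agent.L00.KLimp.Unit
import Groth.Prelude.Def_DualFM

/-!
The two transforms given by one kernel, paired by global sections.
-/

set_option autoImplicit false
set_option linter.style.haveILetI false
set_option backward.defeqAttrib.useBackward true
set_option backward.isDefEq.respectTransparency false
set_option backward.isDefEq.respectTransparency.types false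

universe u

open CategoryTheory CategoryTheory.Limits AlgebraicGeometry

attribute [local instance] HasDerivedCategory.standard

namespace Groth.L10.FMK

open Groth.L29.BC Groth.L29.DC

variable {X Y Z : Scheme.{u}}

/-- commutation of two K-flat complexes -/
theorem nonempty_commD (L M : CochainComplex X.Modules ℤ) (hL : DCoh.IsKFlat L) (hM : DCoh.IsKFlat M)
    [DCoh.HasLTensorCx L] [DCoh.HasLTensorCx M] :
    Nonempty ((DCoh.LTensorCx L).obj (DCoh.toD X M) ≅ (DCoh.LTensorCx M).obj (DCoh.toD X L)) :=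
  ⟨(Assoc.allIso L hL).app M ≪≫ DerivedCategory.Q.mapIso (Groth.L00.KFlat.commIso L M) ≪≫
    ((Assoc.allIso M hM).app L).symm⟩

/-- exchange of the outer factors of a triple tensor product -/
theorem nonempty_rot (A B C : CochainComplex X.Modules ℤ) (hA : DCoh.IsKFlat A) (hB : DCoh.IsKFlat B)
    (hC : DCoh.IsKFlat C) [DCoh.HasLTensorCx A] [DCoh.HasLTensorCx B] [DCoh.HasLTensorCx C] :
    Nonempty ((DCoh.LTensorCx C).obj ((DCoh.LTensorCx B).obj (DCoh.toD X A)) ≅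
      (DCoh.LTensorCx A).obj ((DCoh.LTensorCx B).obj (DCoh.toD X C))) := by
  haveI := Groth.L00.KFlat.hasLTensorCx ((DCoh.tensorCx.obj B).obj C)
  have hBC := PullTensor.isKFlat_tensor hB hC
  obtain ⟨a⟩ := Groth.L10.FMBC.nonempty_assocD B C hB hC
  obtain ⟨c₁⟩ := nonempty_commD ((DCoh.tensorCx.obj B).obj C) A hBC hA
  obtain ⟨c₂⟩ := nonempty_commD C B hC hB
  exact ⟨a.app _ ≪≫ c₁ ≪≫ (DCoh.LTensorCx A).mapIso (((Assoc.allIso C hC).app B).symm ≪≫ c₂)⟩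

set_option maxHeartbeats 800000 in
/-- `RΓ(E ⊗ Rp_*(Lq^*F ⊗ P)) ≅ RΓ(Z, (Lq^*F ⊗ P) ⊗ Lp^*E)` for `E` perfect -/
theorem nonempty_rGamma_pair (p : Z ⟶ X) (E : CochainComplex X.Modules ℤ) (hE : DCoh.IsPerfect (DCoh.toD X E))
    [DCoh.HasLTensorCx E] [DCoh.HasRpush p] [DCoh.HasRΓ X] [DCoh.HasRΓ Z]
    (PE : CochainComplex X.Modules ℤ) (hPE : DCoh.IsKFlat PE) (e : DCoh.toD X PE ≅ DCoh.toD X E)
    [DCoh.HasLTensorCx ((Proj.pullCx p).obj PE)] (W : DCoh.D Z) :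
    Nonempty ((DCoh.RΓ X).obj ((DCoh.LTensorCx E).obj ((DCoh.Rpush p).obj W)) ≅
      (DCoh.RΓ Z).obj ((DCoh.LTensorCx ((Proj.pullCx p).obj PE)).obj W)) := by
  haveI := Groth.L00.KFlat.hasLTensorCx PE
  haveI := QRlim.enoughKInj X
  haveI := QRlim.enoughKInj Z
  obtain ⟨c⟩ := ProjQC.nonempty_LTensorCx_congr e.symm
  obtain ⟨pf⟩ := ProjFormulaD.nonempty_projection p PE hPE (isPerfect_of_iso e.symm hE) W
  obtain ⟨g⟩ := Groth.L00.KLimp.nonempty_RΓ_Rpush p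
  exact ⟨(DCoh.RΓ X).mapIso (c.app _ ≪≫ pf) ≪≫ g.app _⟩

set_option maxHeartbeats 1600000 in
theorem nonempty_psi_phi {S : Scheme.{u}} (a : X ⟶ S) (b : Y ⟶ S)
    (P : CochainComplex (pullback a b).Modules ℤ)
    [DCoh.HasLpull (pullback.fst a b)] [DCoh.HasLpull (pullback.snd a b)] [DCoh.HasLTensorCx P]
    [DCoh.HasRpush (pullback.fst a b)] [DCoh.HasRpush (pullback.snd a b)]
    [DCoh.HasRΓ X] [DCoh.HasRΓ Y]
    (E : CochainComplex X.Modules ℤ) (hE : DCoh.IsPerfect (DCoh.toD X E)) [DCoh.HasLTensorCx E]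
    (F : CochainComplex Y.Modules ℤ) (hF : DCoh.IsPerfect (DCoh.toD Y F)) [DCoh.HasLTensorCx F] :
    Nonempty ((DCoh.RΓ X).obj ((DCoh.LTensorCx E).obj
        ((DCoh.Lpull (pullback.snd a b) ⋙ DCoh.LTensorCx P ⋙ DCoh.Rpush (pullback.fst a b)).obj (DCoh.toD Y F))) ≅
      (DCoh.RΓ Y).obj ((DCoh.LTensorCx F).obj ((FMK.phi a b P).obj (DCoh.toD X E)))) := by
  haveI := fun {V : Scheme.{u}} (E : CochainComplex V.Modules ℤ) => Groth.L00.KFlat.hasLTensorCx E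
  haveI := QRlim.enoughKInj (pullback a b)
  haveI : DCoh.HasRΓ (pullback a b) := Groth.L10.KInjDerived.hasRightDerivedFunctor _
  let p := pullback.fst a b
  let q := pullback.snd a b
  obtain ⟨PE, rE, hPE, -, hrE, -⟩ := Groth.L00.KFlat.exists_resolution E
  obtain ⟨PF, rF, hPF, -, hrF, -⟩ := Groth.L00.KFlat.exists_resolution F
  obtain ⟨PP, rP, hPP, -, hrP, -⟩ := Groth.L00.KFlat.exists_resolution P
  haveI := (DerivedCategory.isIso_Q_map_iff_quasiIso _ rE).2 hrE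
  haveI := (DerivedCategory.isIso_Q_map_iff_quasiIso _ rF).2 hrF
  haveI := (DerivedCategory.isIso_Q_map_iff_quasiIso _ rP).2 hrP
  obtain ⟨eE⟩ : Nonempty (DCoh.toD X PE ≅ DCoh.toD X E) := ⟨asIso (DerivedCategory.Q.map rE)⟩
  obtain ⟨eF⟩ : Nonempty (DCoh.toD Y PF ≅ DCoh.toD Y F) := ⟨asIso (DerivedCategory.Q.map rF)⟩
  obtain ⟨cP⟩ := ProjQC.nonempty_LTensorCx_congr (asIso (DerivedCategory.Q.map rP)).symm
  obtain ⟨l₁⟩ : Nonempty ((DCoh.Lpull p).obj (DCoh.toD X E) ≅ DCoh.toD _ ((Proj.pullCx p).obj PE)) :=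
    ⟨(DCoh.Lpull p).mapIso eE.symm ≪≫
      Groth.L00.DerivedApi.objIso (Groth.L00.DerivedApi.acyclicKFlat_pullback p) PE hPE⟩
  obtain ⟨l₂⟩ : Nonempty ((DCoh.Lpull q).obj (DCoh.toD Y F) ≅ DCoh.toD _ ((Proj.pullCx q).obj PF)) :=
    ⟨(DCoh.Lpull q).mapIso eF.symm ≪≫
      Groth.L00.DerivedApi.objIso (Groth.L00.DerivedApi.acyclicKFlat_pullback q) PF hPF⟩
  obtain ⟨g₁⟩ := nonempty_rGamma_pair p E hE PE hPE eE ((DCoh.LTensorCx P).obj ((DCoh.Lpull q).obj (DCoh.toD Y F)))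
  obtain ⟨g₂⟩ := nonempty_rGamma_pair q F hF PF hPF eF ((DCoh.LTensorCx P).obj ((DCoh.Lpull p).obj (DCoh.toD X E)))
  obtain ⟨r⟩ := nonempty_rot ((Proj.pullCx q).obj PF) PP ((Proj.pullCx p).obj PE)
    (Groth.L00.KFlat.pullback_kflat q PF hPF) hPP (Groth.L00.KFlat.pullback_kflat p PE hPE)
  exact ⟨g₁ ≪≫ (DCoh.RΓ (pullback a b)).mapIso
      ((DCoh.LTensorCx _).mapIso (cP.app _ ≪≫ (DCoh.LTensorCx PP).mapIso l₂) ≪≫ r ≪≫
        ((DCoh.LTensorCx _).mapIso (cP.app _ ≪≫ (DCoh.LTensorCx PP).mapIso l₁)).symm) ≪≫ g₂.symm⟩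

end Groth.L10.FMK
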