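import Groth.Agent.L10.FMK.Gamma
import Groth.Agent.L29.K.CohSupp
import Groth.Agent.L16.Rees.RelVanish
import Groth.Agent.S2325
import Groth.Agent.Lead.AmpleGen
import Groth.Agent.Lead.PCProjBasic
import Groth.Agent.Lead.LTMod

/-!
Hypercohomology of high twists of a bounded coherent complex.
-/

set_option autoImplicit false
set_option linter.style.haveILetI false
set_option backward.defeqAttrib.useBackward true
set_option backward.isDefEq.respectTransparency false
set_option backward.isDefEq.respectTransparency.types false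

universe u

open CategoryTheory CategoryTheory.Limits AlgebraicGeometry

attribute [local instance] HasDerivedCategory.standard

namespace Groth.L10.FMK

open Groth.L29.DC Groth.Lead Groth.L00.Tensor

variable {X : Scheme.{u}}

/-- a globally generated module without global sections is zero -/
theorem isZero_of_generated {M : X.Modules} (hg : Curv2.IsGloballyGenerated M)
    (h : IsZero ((DCoh.gammaAb X).obj M)) : IsZero M := by
  obtain ⟨ι', p, hp⟩ := hg
  haveI := hp
  haveI := AddCommGrpCat.subsingleton_of_isZero h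
  have hp0 : p = 0 := Cofan.IsColimit.hom_ext (SheafOfModules.isColimitFreeCofan (R := X.ringCatSheaf) ι') _ _ fun i =>
    Groth.L21.RR.hom_ext_one (X := X) (@Subsingleton.elim ((DCoh.gammaAb X).obj M) inferInstance _ _)
  exact (IsZero.iff_id_eq_zero _).2 ((cancel_epi p).1 (by rw [hp0, zero_comp, zero_comp]))

/-- the cohomology sheaves of a twist -/
theorem nonempty_HD_tensor {A : X.Modules} (hfA : FlatMod.IsFinLocFree A) [DCoh.HasLTensorCx (LTMod.S0 A)]
    (K : DCoh.D X) (i : ℤ) :
    Nonempty (DCoh.HD ((DCoh.LTensorCx (LTMod.S0 A)).obj K) i ≅ (DCoh.tensorRightMod A).obj (DCoh.HD K i)) := by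
  haveI := Groth.L00.DerivedApi.hasLTensorMod A
  haveI := (Groth.L16.Rees.PushExact.exact_instances hfA).1
  haveI := (Groth.L16.Rees.PushExact.exact_instances hfA).2
  let C := DerivedCategory.Q.objPreimage K
  let e := DerivedCategory.Q.objObjPreimageIso K
  let R := DCoh.tensorRightMod A
  let T := TwistEquiv.T A hfA
  let i' : DCoh.HD (T.obj K) i ≅ R.obj (DCoh.HD K i) :=
    (DerivedCategory.homologyFunctor _ i).mapIso (T.mapIso e.symm ≪≫ (TwistEquiv.TFactors A hfA).app C) ≪≫
    (DerivedCategory.homologyFunctorFactors _ i).app ((R.mapHomologicalComplex (ComplexShape.up ℤ)).obj C) ≪≫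
    (C.sc i).mapHomologyIso R ≪≫
    R.mapIso (((DerivedCategory.homologyFunctorFactors _ i).app C).symm ≪≫
      (DerivedCategory.homologyFunctor _ i).mapIso e)
  exact ⟨(DerivedCategory.homologyFunctor _ i).mapIso
    (((LTMod.iso A).symm ≪≫ TwistEquiv.ltIso A hfA).app K) ≪≫ i'⟩

theorem nonempty_HD_twist {A : X.Modules} (hA : PicF.IsInvertible A) [DCoh.HasLTensorCx (LTMod.S0 A)]
    (K : DCoh.D X) (i : ℤ) :
    Nonempty (DCoh.HD ((DCoh.LTensorCx (LTMod.S0 A)).obj K) i ≅ (DCoh.tensorRightMod A).obj (DCoh.HD K i)) :=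
  nonempty_HD_tensor (Groth.L16.Existence.isFinLocFree_of_isInvertible hA) K i

/-- twisting by an invertible module detects zero -/
theorem isZero_of_twist {A : X.Modules} (hA : PicF.IsInvertible A) {M : X.Modules}
    (h : IsZero (CohB1.tensorMod M A)) : IsZero M := by
  obtain ⟨B, hB, ⟨e⟩⟩ := Groth.L08.Cube.exists_inverse hA
  exact (((DCoh.tensorRightMod B).map_isZero h).of_iso
    ((tensorUnitRight M).symm ≪≫ tensorIso (Iso.refl M) e.symm ≪≫ (tensorAssoc M A B).symm))

set_option maxHeartbeats 800000 in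
/-- for large twists the hypercohomology is the space of sections of the twisted cohomology sheaf -/
theorem exists_twist_bound {R : Type u} [CommRing R] [IsNoetherianRing R] (f : X ⟶ Spec (CommRingCat.of R))
    [IsProper f] {L : X.Modules} (hL : CohB1.IsAmple L) [DCoh.HasRΓ X] (K : DCoh.D X) (hK : DCoh.IsPerfect K) :
    ∃ n₀ : ℕ, ∀ n : ℕ, n₀ ≤ n → ∀ [DCoh.HasLTensorCx (LTMod.S0 (CohB1.tensorPow L n))] (i : ℤ),
      (IsZero (DCoh.HD K i) ↔ IsZero ((DerivedCategory.homologyFunctor AddCommGrpCat.{u} i).obj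
        ((DCoh.RΓ X).obj ((DCoh.LTensorCx (LTMod.S0 (CohB1.tensorPow L n))).obj K)))) := by
  classical
  haveI : CompactSpace X := QuasiCompact.compactSpace_of_compactSpace f
  haveI : X.IsSeparated := Groth.L18.Ample.isSeparated_of_isAmple hL
  haveI : IsLocallyNoetherian X := LocallyOfFiniteType.isLocallyNoetherian f
  obtain ⟨a, b, hge, hle⟩ := Groth.L29.CohSupp.exists_bounds_of_perfect hK
  have hc := Groth.L29.CohSupp.isCohD_of_perfect hK
  choose v hv using fun i : ℤ => Groth.L16.Rees.RelVanish.exists_vanishing f hL (hc i)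
  choose g hg using fun i : ℤ => Groth.Agent.S2325.result X L hL (DCoh.HD K i) (hc i)
  refine ⟨(Finset.Icc a b).sup v + (Finset.Icc a b).sup g, fun n hn _ i => ?_⟩
  have hA : PicF.IsInvertible (CohB1.tensorPow L n) := Groth.L18.Ample.isInvertible_tensorPow hL.1 n
  have hz : ∀ j, j ∉ Finset.Icc a b → IsZero (DCoh.HD K j) := fun j hj => by
    rw [Finset.mem_Icc, not_and_or, not_le, not_le] at hj
    rcases hj with hj | hj
    exacts [DerivedCategory.isZero_of_isGE _ a j hj, DerivedCategory.isZero_of_isLE _ b j hj]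
  let K' := (DCoh.LTensorCx (LTMod.S0 (CohB1.tensorPow L n))).obj K
  haveI := Functor.preservesZeroMorphisms_of_additive (DCoh.tensorRightMod (CohB1.tensorPow L n))
  have hz' : ∀ j, j ∉ Finset.Icc a b → IsZero (DCoh.HD K' j) := fun j hj =>
    ((DCoh.tensorRightMod (CohB1.tensorPow L n)).map_isZero (hz j hj)).of_iso (nonempty_HD_twist hA K j).some
  have hGE : K'.IsGE a := (DerivedCategory.isGE_iff _ a).2 fun j hj => hz' j (by simp; omega)
  haveI := hGE
  have hLE : K'.IsLE b := (DerivedCategory.isLE_iff _ b).2 fun j hj => hz' j (by simp; omega)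
  haveI := QRlim.enoughKInj X
  haveI : EnoughInjectives X.Modules := (Groth.L10.ModRDer.insts X.sheaf).1
  haveI : HasInjectiveResolutions X.Modules := inferInstance
  haveI := fun p => Groth.L00.RDerLES.additive (DCoh.gammaAb X) p
  have hacy : ∀ (j : ℤ) (p : ℕ), IsZero (((DCoh.gammaAb X).rightDerived (p + 1)).obj (DCoh.HD K' j)) := by
    intro j p
    by_cases hj : j ∈ Finset.Icc a b
    · exact (isZero_gamma_rightDerived p _ (hv j n (((Finset.le_sup hj).trans (Nat.le_add_right _ _)).trans hn)
        (p + 1) p.succ_pos)).of_iso (((DCoh.gammaAb X).rightDerived (p + 1)).mapIso (nonempty_HD_twist hA K j).some)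
    · exact Functor.map_isZero _ (hz' j hj)
  obtain ⟨e⟩ := nonempty_H_iso (F := DCoh.gammaAb X)
    ((DCoh.gammaKh X).totalRightDerivedUnit DerivedCategory.Qh (HomotopyCategory.quasiIso X.Modules (ComplexShape.up ℤ)))
    b (b + 1 - a).toNat K' ((DerivedCategory.isGE_iff _ _).2 fun j hj => hz' j (by simp; omega)) hLE hacy i
  obtain ⟨t⟩ := nonempty_HD_twist hA K i
  let E : (DerivedCategory.homologyFunctor AddCommGrpCat.{u} i).obj ((DCoh.RΓ X).obj K') ≅
      (DCoh.gammaAb X).obj (CohB1.tensorMod (DCoh.HD K i) (CohB1.tensorPow L n)) :=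
    e ≪≫ (DCoh.gammaAb X).rightDerivedZeroIsoSelf.app _ ≪≫ (DCoh.gammaAb X).mapIso t
  constructor
  · intro h
    exact (Functor.map_isZero _ ((DCoh.tensorRightMod (CohB1.tensorPow L n)).map_isZero h)).of_iso E
  · intro h
    by_cases hi : i ∈ Finset.Icc a b
    · exact isZero_of_twist hA (isZero_of_generated (hg i n (((Finset.le_sup hi).trans (Nat.le_add_left _ _)).trans hn))
        (h.of_iso E.symm))
    · exact hz i hi

end Groth.L10.FMK
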