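import Groth.Agent.L10.FMK.SuppDim
import Groth.Agent.L10.FMK.Graded
import Groth.Agent.L10.FMK.Twist
import Groth.Agent.L10.FMK.Basic

/-!
Hypercohomology of a complex with a codimension bound on the supports, tensored with a locally free module.
-/

set_option autoImplicit false
set_option linter.style.haveILetI false
set_option backward.defeqAttrib.useBackward true
set_option backward.isDefEq.respectTransparency false
set_option backward.isDefEq.respectTransparency.types false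

universe u

open CategoryTheory CategoryTheory.Limits AlgebraicGeometry TopologicalSpace

attribute [local instance] HasDerivedCategory.standard

namespace Groth.L10.FMK

open Groth.L29.DC Groth.Lead

variable {Y : Scheme.{u}}

theorem support_tensor_subset (A B : Y.Modules) : CohB1.support (CohB1.tensorMod A B) ⊆ CohB1.support A := by
  intro x hx hA
  apply hx
  haveI : Subsingleton (Groth.L00.StalkTensor.St (Groth.L00.Tensor.pre A) x) := hA
  haveI : Subsingleton (TensorProduct (Groth.L00.StalkTensor.Ox Y x) (Groth.L00.StalkTensor.St (Groth.L00.Tensor.pre A) x)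
      (Groth.L00.StalkTensor.St (Groth.L00.Tensor.pre B) x)) := subsingleton_of_forall_eq 0 fun c => by
    induction c using TensorProduct.induction_on with
    | zero => rfl
    | tmul u v => rw [Subsingleton.elim u 0, TensorProduct.zero_tmul]
    | add u v hu hv => rw [hu, hv, add_zero]
  exact @Equiv.subsingleton _ _ (Groth.L00.Stk.τ x A B).toLinearEquiv.symm.toEquiv ‹_›

set_option maxHeartbeats 800000 in
theorem isZero_hyper [NoetherianSpace ↥Y] {g : ℕ} (hg : topologicalKrullDim ↥Y ≤ (g : WithBot ℕ∞))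
    [DCoh.HasRΓ Y] (K : DCoh.D Y) (k' : ℕ) (hneg : ∀ i : ℤ, i < 0 → IsZero (DCoh.HD K i))
    (hcodim : ∀ (i : ℕ) (y : ↥Y), y ∈ CohB1.support (DCoh.HD K (i : ℤ)) →
      ((i - k' : ℕ) : WithBot ℕ∞) ≤ ringKrullDim ↑(Y.presheaf.stalk y))
    {N : Y.Modules} (hN : FlatMod.IsFinLocFree N) [DCoh.HasLTensorCx (LTMod.S0 N)]
    (i : ℤ) (hi : i < 0 ∨ (g : ℤ) + k' < i) :
    IsZero ((DerivedCategory.homologyFunctor AddCommGrpCat.{u} i).obj ((DCoh.RΓ Y).obj
      ((DCoh.LTensorCx (LTMod.S0 N)).obj K))) := by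
  haveI := QRlim.enoughKInj Y
  haveI : EnoughInjectives Y.Modules := (Groth.L10.ModRDer.insts Y.sheaf).1
  haveI : HasInjectiveResolutions Y.Modules := inferInstance
  haveI := fun p => Groth.L00.RDerLES.additive (DCoh.gammaAb Y) p
  haveI := Functor.preservesZeroMorphisms_of_additive (DCoh.tensorRightMod N)
  let K' := (DCoh.LTensorCx (LTMod.S0 N)).obj K
  have hcod' : ∀ (j : ℕ) (y : ↥Y), y ∈ CohB1.support (DCoh.HD K' (j : ℤ)) →
      ((j - k' : ℕ) : WithBot ℕ∞) ≤ ringKrullDim ↑(Y.presheaf.stalk y) := fun j y hy => by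
    refine hcodim j y (support_tensor_subset _ N ?_)
    refine fun hs => hy ?_
    exact @Equiv.subsingleton _ _ ((Groth.L00.Stk.F Y y).mapIso (nonempty_HD_tensor hN K j).some).toLinearEquiv.toEquiv hs
  have hneg' : ∀ j : ℤ, j < 0 → IsZero (DCoh.HD K' j) := fun j hj =>
    ((DCoh.tensorRightMod N).map_isZero (hneg j hj)).of_iso (nonempty_HD_tensor hN K j).some
  have htop : ∀ j : ℤ, (g : ℤ) + k' < j → IsZero (DCoh.HD K' j) := fun j hj => by
    obtain ⟨j', rfl⟩ : ∃ j' : ℕ, j = j' := ⟨j.toNat, by omega⟩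
    exact isZero_of_codim hg _ (j' - k') (hcod' j') (by omega)
  haveI hGE : K'.IsGE 0 := (DerivedCategory.isGE_iff _ _).2 hneg'
  haveI hLE : K'.IsLE ((g : ℤ) + k') := (DerivedCategory.isLE_iff _ _).2 htop
  let α := (DCoh.gammaKh Y).totalRightDerivedUnit DerivedCategory.Qh (HomotopyCategory.quasiIso Y.Modules (ComplexShape.up ℤ))
  rcases hi with hi | hi
  · haveI := Groth.L10.RDerBound.isGE_obj (F := DCoh.gammaAb Y) α K' 0
    exact DerivedCategory.isZero_of_isGE _ 0 i hi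
  refine isZero_H_of_graded (F := DCoh.gammaAb Y) α ((g : ℤ) + k') i (g + k' + 1) K'
    (by rw [show (g : ℤ) + k' + 1 - ((g + k' + 1 : ℕ) : ℤ) = 0 by push_cast; ring]; exact hGE) hLE
    fun j hj1 hj2 p hp => ?_
  obtain ⟨j', rfl⟩ : ∃ j' : ℕ, j = j' := ⟨j.toNat, by omega⟩
  obtain ⟨q, rfl⟩ : ∃ q, p = q + 1 := ⟨p - 1, by omega⟩
  exact isZero_gamma_rightDerived q _ (subsingleton_HH_of_codim hg _ (j' - k') (hcod' j') (q + 1) (by omega) q.succ_pos)

theorem isZero_hyper_psi (k : Type u) [Field k]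
    (X Y : Scheme.{u}) (a : X ⟶ Spec (CommRingCat.of k)) (b : Y ⟶ Spec (CommRingCat.of k))
    [LocallyOfFiniteType b] [QuasiCompact b] (g : ℕ) (hg : topologicalKrullDim ↥Y ≤ (g : WithBot ℕ∞))
    (P : CochainComplex (pullback a b).Modules ℤ)
    [DCoh.HasLpull (pullback.fst a b)] [DCoh.HasLpull (pullback.snd a b)] [DCoh.HasLTensorCx P]
    [DCoh.HasRpush (pullback.fst a b)] [DCoh.HasRpush (pullback.snd a b)] [DCoh.HasRΓ X]
    (k' : ℕ) (F : CochainComplex X.Modules ℤ) (hF : DCoh.IsPerfect (DCoh.toD X F)) [DCoh.HasLTensorCx F]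
    (hneg : ∀ i : ℤ, i < 0 → IsZero (DCoh.HD ((FMK.phi a b P).obj (DCoh.toD X F)) i))
    (hcodim : ∀ (i : ℕ) (y : ↥Y), y ∈ CohB1.support (DCoh.HD ((FMK.phi a b P).obj (DCoh.toD X F)) (i : ℤ)) →
      ((i - k' : ℕ) : WithBot ℕ∞) ≤ ringKrullDim ↑(Y.presheaf.stalk y))
    (N : Y.Modules) (hN : FlatMod.IsFinLocFree N) (i : ℤ) (hi : i < 0 ∨ (g : ℤ) + k' < i) :
    IsZero ((DerivedCategory.homologyFunctor AddCommGrpCat.{u} i).obj ((DCoh.RΓ X).obj
      ((DCoh.LTensorCx F).obj ((DCoh.Lpull (pullback.snd a b) ⋙ DCoh.LTensorCx P ⋙ DCoh.Rpush (pullback.fst a b)).obj (DCoh.inD Y N))))) := by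
  haveI := fun {V : Scheme.{u}} (E : CochainComplex V.Modules ℤ) => Groth.L00.KFlat.hasLTensorCx E
  haveI := QRlim.enoughKInj Y
  haveI : DCoh.HasRΓ Y := Groth.L10.KInjDerived.hasRightDerivedFunctor _
  haveI : IsLocallyNoetherian Y := LocallyOfFiniteType.isLocallyNoetherian b
  haveI : CompactSpace Y := QuasiCompact.compactSpace_of_compactSpace b
  haveI : AlgebraicGeometry.IsNoetherian Y := {}
  let s := (DerivedCategory.singleFunctorIsoCompQ Y.Modules 0).app N
  obtain ⟨p⟩ := nonempty_psi_phi a b P F hF (LTMod.S0 N) (isPerfect_of_iso s (PCProj.isPerfect_inD hN))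
  let e := (DerivedCategory.homologyFunctor AddCommGrpCat.{u} i).mapIso ((DCoh.RΓ X).mapIso
    ((DCoh.LTensorCx F).mapIso ((DCoh.Lpull (pullback.snd a b) ⋙ DCoh.LTensorCx P ⋙
      DCoh.Rpush (pullback.fst a b)).mapIso s)) ≪≫ p)
  exact (isZero_hyper hg _ k' hneg hcodim hN i hi).of_iso e

end Groth.L10.FMK
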