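import Groth.Agent.L22.PDual.TwistExt
import Groth.Agent.L00.RDerLES
import Groth.Agent.L10.FMK.Acyc
import Groth.Prelude.Def_DCoh2

/-! The derived functors of global sections vanish with sheaf cohomology. -/

set_option autoImplicit false
set_option linter.style.haveILetI false
set_option backward.defeqAttrib.useBackward true
set_option backward.isDefEq.respectTransparency false
set_option backward.isDefEq.respectTransparency.types false

universe u

open CategoryTheory CategoryTheory.Limits AlgebraicGeometry

namespace Groth.L10.FMK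

open Groth.L16.CohLinear

variable {X : Scheme.{u}}

instance preservesFiniteLimits_gammaAb : PreservesFiniteLimits (DCoh.gammaAb X) := by
  haveI : PreservesLimitsOfSize.{0, 0} (Scheme.Modules.toPresheaf X) := preservesLimitsOfSize_shrink.{0, u, 0, u} _
  haveI : PreservesFiniteLimits (Scheme.Modules.toPresheaf X) := PreservesLimitsOfSize.preservesFiniteLimits _
  haveI : PreservesFiniteLimits ((evaluation (TopologicalSpace.Opens ↥X)ᵒᵖ Ab.{u}).obj (Opposite.op ⊤)) :=
    PreservesLimitsOfSize.preservesFiniteLimits _
  exact comp_preservesFiniteLimits _ _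

theorem isZero_gamma_rightDerived [HasInjectiveResolutions X.Modules] [EnoughInjectives X.Modules]
    [HasDerivedCategory X.Modules] [HasDerivedCategory AddCommGrpCat.{u}] :
    ∀ (p : ℕ) (M : X.Modules), Subsingleton (Coh.HH X M (p + 1)) →
      IsZero (((DCoh.gammaAb X).rightDerived (p + 1)).obj M) := by
  intro p
  induction p with
  | zero =>
    intro M h
    have hT := Groth.L22.PDual.shortExact_cokernel_ι M
    haveI : Epi ((DCoh.gammaAb X).map (cokernel.π (Injective.ι M))) := by
      rw [AddCommGrpCat.epi_iff_surjective]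
      intro s
      obtain ⟨y, hy⟩ := (exact_hmap_delta hT 0 ((Groth.L21.RR.e0 _).symm s)).1 (h.elim _ _)
      refine ⟨Groth.L21.RR.e0 _ y, ?_⟩
      have h2 := congrArg (Groth.L21.RR.e0 _) hy
      rw [Groth.L21.RR.e0_hmap, AddEquiv.apply_symm_apply] at h2
      exact h2
    haveI : Epi (((DCoh.gammaAb X).rightDerived 0).map (cokernel.π (Injective.ι M))) :=
      ((MorphismProperty.epimorphisms _).arrow_mk_iso_iff
        (Arrow.isoMk ((DCoh.gammaAb X).rightDerivedZeroIsoSelf.app _)
          ((DCoh.gammaAb X).rightDerivedZeroIsoSelf.app _)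
          ((DCoh.gammaAb X).rightDerivedZeroIsoSelf.hom.naturality _).symm)).2 ‹_›
    exact Groth.L00.RDerLES.isZero_X₁ (DCoh.gammaAb X) hT 0
      (Functor.isZero_rightDerived_obj_injective_succ _ 0 _)
  | succ p ih =>
    intro M h
    have hT := Groth.L22.PDual.shortExact_cokernel_ι M
    have hQ : Subsingleton (Coh.HH X (cokernel (Injective.ι M)) (p + 1)) := by
      refine subsingleton_of_forall_eq 0 fun z => ?_
      obtain ⟨y, hy⟩ := (exact_hmap_delta hT (p + 1) z).1 (h.elim _ _)
      have hy0 : y = 0 := (Groth.L22.PDual.subsingleton_HH_injective _ p).elim _ _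
      rw [← hy, hy0, map_zero]
    haveI := Groth.L00.RDerLES.additive (DCoh.gammaAb X) (p + 1)
    haveI : Epi (((DCoh.gammaAb X).rightDerived (p + 1)).map (cokernel.π (Injective.ι M))) :=
      ⟨fun {Z} a b _ => (ih _ hQ).eq_of_src a b⟩
    exact Groth.L00.RDerLES.isZero_X₁ (DCoh.gammaAb X) hT (p + 1)
      (Functor.isZero_rightDerived_obj_injective_succ _ (p + 1) _)

end Groth.L10.FMK
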