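import Groth.Agent.L10.FMK.SuppDim
import Groth.Agent.L10.FMK.Twist
import Groth.Agent.L07.BvdB.FibreNakayama
import Groth.Agent.L10.RelPC.TensorPullMax
import Groth.Agent.L10.FMBC.Equiv
import Groth.Agent.L00.KLimp.Unit

/-!
Fibre hypercohomology of a kernel functor and the supports of its cohomology sheaves.
-/

set_option autoImplicit false
set_option linter.style.haveILetI false
set_option backward.defeqAttrib.useBackward true
set_option backward.isDefEq.respectTransparency false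
set_option backward.isDefEq.respectTransparency.types false

universe u

open CategoryTheory CategoryTheory.Limits AlgebraicGeometry TopologicalSpace Opposite

attribute [local instance] HasDerivedCategory.standard

namespace Groth.L10.FMK

open Groth.L29.DC Groth.Lead

variable {X : Scheme.{u}}

/-- hypercohomology over a point -/
theorem nonempty_H_point [Subsingleton X] [IsLocallyNoetherian X] [DCoh.HasRΓ X] (L : DCoh.D X)
    (hL : DCoh.IsPerfect L) (i : ℤ) :
    Nonempty ((DerivedCategory.homologyFunctor AddCommGrpCat.{u} i).obj ((DCoh.RΓ X).obj L) ≅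
      (DCoh.gammaAb X).obj (DCoh.HD L i)) := by
  haveI := QRlim.enoughKInj X
  haveI : EnoughInjectives X.Modules := (Groth.L10.ModRDer.insts X.sheaf).1
  haveI : HasInjectiveResolutions X.Modules := inferInstance
  haveI : NoetherianSpace ↥X := inferInstance
  have hd : topologicalKrullDim ↥X ≤ ((0 : ℕ) : WithBot ℕ∞) := by
    haveI : DiscreteTopology ↥X := Subsingleton.discreteTopology
    exact_mod_cast topologicalKrullDim_zero_of_discreteTopology ↥X
  obtain ⟨a, b, hge, hle⟩ := Groth.L29.CohSupp.exists_bounds_of_perfect hL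
  haveI := hge
  have hge' : L.IsGE (b + 1 - ((b + 1 - a).toNat : ℕ)) := (DerivedCategory.isGE_iff _ _).2 fun j hj =>
    DerivedCategory.isZero_of_isGE L a j (by omega)
  obtain ⟨e⟩ := nonempty_H_iso (F := DCoh.gammaAb X)
    ((DCoh.gammaKh X).totalRightDerivedUnit DerivedCategory.Qh (HomotopyCategory.quasiIso X.Modules (ComplexShape.up ℤ)))
    b (b + 1 - a).toNat L hge' hle (fun j p => isZero_gamma_rightDerived p _
      (subsingleton_HH_of_codim hd _ 0 (fun y _ => by rw [ringKrullDim_stalk_eq_coheight]; exact WithBot.coe_le_coe.2 bot_le)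
        (p + 1) (by omega) p.succ_pos)) i
  exact ⟨e ≪≫ (DCoh.gammaAb X).rightDerivedZeroIsoSelf.app _⟩

variable [IsLocallyNoetherian X] [∀ x : X, DCoh.HasLpull (X.fromSpecResidueField x)]

/-- the fibre vanishes in degrees above all cohomology -/
theorem isZero_fibre_of_notMem (E : DCoh.D X) (hE : DCoh.IsPerfect E) (x : X) (i : ℤ)
    (h : ∀ j : ℤ, i ≤ j → x ∉ CohB1.support (DCoh.HD E j)) :
    IsZero (DCoh.HD ((DCoh.Lpull (X.fromSpecResidueField x)).obj E) i) := by
  obtain ⟨V₀, hV₀, hx₀, -⟩ := exists_isAffineOpen_mem_and_subset (X := X) (U := ⊤) (x := x) (by trivial)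
  haveI : CompactSpace (V₀ : Scheme.{u}) := isCompact_iff_compactSpace.1 hV₀.isCompact
  obtain ⟨a, b, -, hle⟩ := Groth.L29.CohSupp.exists_bounds_of_perfect (X := (V₀ : Scheme.{u}))
    (K := (DCoh.restrictD V₀.ι).obj E) (EvalMain.isPerfect_restrictD V₀.ι hE)
  have hcl : IsClosed (⋃ j ∈ Finset.Icc i b, CohB1.support (DCoh.HD E j)) :=
    Set.Finite.isClosed_biUnion (Finset.finite_toSet _) fun j _ =>
      Groth.L16.CohSupport.isClosed_support _ (Groth.L29.CohSupp.isCohD_of_perfect hE j).2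
  let W : X.Opens := V₀ ⊓ ⟨_, hcl.isOpen_compl⟩
  have hxW : x ∈ W := ⟨hx₀, fun hx => by
    obtain ⟨j, hj, hxj⟩ := Set.mem_iUnion₂.1 hx
    exact h j (Finset.mem_Icc.1 hj).1 hxj⟩
  have hW : ((DCoh.restrictD W.ι).obj E).IsLE (i - 1) := by
    refine (DerivedCategory.isLE_iff _ _).2 fun j hj => ?_
    refine IsZero.of_iso ?_ (HDResIso W.ι E j)
    refine (Groth.L00.Stk.isZero_iff _).2 fun w => @ModuleCat.isZero_of_subsingleton _ _ _ (not_not.1 fun hw => ?_)
    have hmem : W.ι w ∈ CohB1.support (DCoh.HD E j) := (Groth.L21.Mod.support_restrict W.ι (DCoh.HD E j)).subset hw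
    by_cases hjb : j ≤ b
    · exact w.2.2 (Set.mem_iUnion₂.2 ⟨j, Finset.mem_Icc.2 ⟨by omega, hjb⟩, hmem⟩)
    · let w₀ : (V₀ : Scheme.{u}) := ⟨W.ι w, w.2.1⟩
      have h0 : w₀ ∉ CohB1.support ((DCoh.HD E j).restrict V₀.ι) := by
        intro hc
        refine hc ?_
        exact ModuleCat.subsingleton_of_isZero ((Groth.L00.Stk.F _ w₀).map_isZero
          ((DerivedCategory.isZero_of_isLE _ b j (by omega)).of_iso (HDResIso V₀.ι E j).symm))
      exact h0 ((Groth.L21.Mod.support_restrict V₀.ι (DCoh.HD E j)).symm.subset hmem)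
  let g := IsOpenImmersion.lift W.ι (X.fromSpecResidueField x) (by
    rintro _ ⟨z, rfl⟩
    rw [Scheme.Opens.range_ι]
    simpa using hxW)
  have hg : g ≫ W.ι = X.fromSpecResidueField x := IsOpenImmersion.lift_fac _ _ _
  haveI := Groth.L00.KFlat.hasLpull g
  haveI := Groth.L00.KFlat.hasLpull W.ι
  obtain ⟨e₁⟩ := nonempty_Lpull_iso_restrictD W.ι E
  obtain ⟨e₂⟩ : Nonempty (DCoh.Lpull W.ι ⋙ DCoh.Lpull g ≅ DCoh.Lpull (X.fromSpecResidueField x)) :=
    Groth.L10.FMBC.nonempty_lpull_comp' g W.ι hg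
  have hL : ((DCoh.Lpull g).obj ((DCoh.restrictD W.ι).obj E)).IsLE (i - 1) :=
    Groth.L10.RelPC.TensorPullMax.isLE_Lpull g _ _ hW
  exact (DerivedCategory.isZero_of_isLE _ (i - 1) i (by omega)).of_iso
    ((DerivedCategory.homologyFunctor _ i).mapIso (e₂.symm.app E ≪≫ (DCoh.Lpull g).mapIso e₁))

/-- nonvanishing cohomology gives a nonvanishing fibre -/
theorem notMem_of_isZero_fibre (E : DCoh.D X) (hE : DCoh.IsPerfect E) (x : X) (i : ℤ)
    (h : IsZero ((DCoh.gammaAb _).obj (DCoh.HD ((DCoh.Lpull (X.fromSpecResidueField x)).obj E) i))) :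
    x ∉ CohB1.support (DCoh.HD E i) := by
  refine Groth.L07.BvdB.FibreNakayama.notMem_support E hE x i ?_
  haveI : Subsingleton ((DCoh.HD ((DCoh.Lpull (X.fromSpecResidueField x)).obj E) i).val.obj (op ⊤)) :=
    AddCommGrpCat.subsingleton_of_isZero h
  haveI : Nontrivial (Coh.Γtop (Spec (X.residueField x))) :=
    (Scheme.ΓSpecIso (X.residueField x)).commRingCatIsoToRingEquiv.toEquiv.nontrivial
  exact Module.finrank_zero_of_subsingleton

end Groth.L10.FMK

namespace Groth.L10.FMK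

open Groth.L29.DC Groth.Lead Groth.L29.BC

set_option maxHeartbeats 800000 in
/-- fibre hypercohomology of the kernel -/
theorem nonempty_fibre_iso (k : Type u) [Field k]
    (X Y : Scheme.{u}) (a : X ⟶ Spec (CommRingCat.of k)) (b : Y ⟶ Spec (CommRingCat.of k)) [IsProper a]
    [LocallyOfFiniteType b]
    (P : CochainComplex (pullback a b).Modules ℤ) (hP : DCoh.IsPerfect (DCoh.toD (pullback a b) P))
    [DCoh.HasLpull (pullback.fst a b)] [DCoh.HasLTensorCx P] [DCoh.HasRpush (pullback.snd a b)]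
    (y : Y) [DCoh.HasLpull (Y.fromSpecResidueField y)]
    [DCoh.HasLpull (pullback.fst (pullback.snd a b) (Y.fromSpecResidueField y))]
    [DCoh.HasRΓ (pullback (pullback.snd a b) (Y.fromSpecResidueField y))]
    (F : CochainComplex X.Modules ℤ) (hF : DCoh.IsPerfect (DCoh.toD X F)) (i : ℤ) :
    Nonempty ((DerivedCategory.homologyFunctor AddCommGrpCat.{u} i).obj
        ((DCoh.RΓ (pullback (pullback.snd a b) (Y.fromSpecResidueField y))).obj
          ((DCoh.Lpull (pullback.fst (pullback.snd a b) (Y.fromSpecResidueField y))).obj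
            ((DCoh.LTensorCx P).obj ((DCoh.Lpull (pullback.fst a b)).obj (DCoh.toD X F))))) ≅
      (DCoh.gammaAb (Spec (Y.residueField y))).obj
        (DCoh.HD ((DCoh.Lpull (Y.fromSpecResidueField y)).obj ((FMK.phi a b P).obj (DCoh.toD X F))) i)) := by
  haveI := fun {A B : Scheme.{u}} (k : A ⟶ B) => RpushQC.hasRpush k
  haveI := fun {A B : Scheme.{u}} (k : A ⟶ B) => Groth.L00.KFlat.hasLpull k
  haveI := QRlim.enoughKInj (pullback (pullback.snd a b) (Y.fromSpecResidueField y))
  haveI := QRlim.enoughKInj (Spec (Y.residueField y))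
  haveI : DCoh.HasRΓ (Spec (Y.residueField y)) := Groth.L10.KInjDerived.hasRightDerivedFunctor _
  haveI : Flat a := inferInstance
  haveI := Groth.L10.FMBC.lfp_of_noetherian a
  haveI : IsLocallyNoetherian Y := LocallyOfFiniteType.isLocallyNoetherian b
  let W := (DCoh.LTensorCx P).obj ((DCoh.Lpull (pullback.fst a b)).obj (DCoh.toD X F))
  have hWp : DCoh.IsPerfect W := Groth.L10.FMBC.isPerfect_LT P hP (isPerfect_Lpull _ hF)
  have hc : IsPullback (pullback.fst (pullback.snd a b) (Y.fromSpecResidueField y))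
      (pullback.snd (pullback.snd a b) (Y.fromSpecResidueField y)) (pullback.snd a b) (Y.fromSpecResidueField y) :=
    IsPullback.of_hasPullback _ _
  haveI : IsIso (β hc.w W) :=
    Groth.L10.FMBC.bc_of_flat_or hc (Or.inl inferInstance) W (PCQCoh.isQCohD_of_perfect hWp)
  have hΦ : DCoh.IsPerfect ((FMK.phi a b P).obj (DCoh.toD X F)) :=
    Groth.L10.FMBC.isPerfect_phi a b P hP _ hF
  obtain ⟨g⟩ := Groth.L00.KLimp.nonempty_RΓ_Rpush (pullback.snd (pullback.snd a b) (Y.fromSpecResidueField y))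
  obtain ⟨h⟩ := nonempty_H_point ((DCoh.Lpull (Y.fromSpecResidueField y)).obj ((FMK.phi a b P).obj (DCoh.toD X F)))
    (isPerfect_Lpull _ hΦ) i
  exact ⟨(DerivedCategory.homologyFunctor AddCommGrpCat.{u} i).mapIso
    ((g.app _).symm ≪≫ (DCoh.RΓ (Spec (Y.residueField y))).mapIso (asIso (β hc.w W)).symm) ≪≫ h⟩

theorem codim_iff (k : Type u) [Field k]
    (X Y : Scheme.{u}) (a : X ⟶ Spec (CommRingCat.of k)) (b : Y ⟶ Spec (CommRingCat.of k)) [IsProper a]
    [LocallyOfFiniteType b]
    (P : CochainComplex (pullback a b).Modules ℤ) (hP : DCoh.IsPerfect (DCoh.toD (pullback a b) P))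
    [DCoh.HasLpull (pullback.fst a b)] [DCoh.HasLTensorCx P] [DCoh.HasRpush (pullback.snd a b)]
    [∀ y : ↥Y, DCoh.HasLpull (pullback.fst (pullback.snd a b) (Y.fromSpecResidueField y))]
    [∀ y : ↥Y, DCoh.HasRΓ (pullback (pullback.snd a b) (Y.fromSpecResidueField y))]
    (F : CochainComplex X.Modules ℤ) (hF : DCoh.IsPerfect (DCoh.toD X F)) (k' : ℕ) :
    (∀ (i : ℕ) (y : ↥Y), y ∈ CohB1.support (DCoh.HD ((FMK.phi a b P).obj (DCoh.toD X F)) (i : ℤ)) →
      ((i - k' : ℕ) : WithBot ℕ∞) ≤ ringKrullDim ↑(Y.presheaf.stalk y)) ↔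
    (∀ (i : ℕ) (y : ↥Y), ¬ IsZero ((DerivedCategory.homologyFunctor AddCommGrpCat.{u} (i : ℤ)).obj
        ((DCoh.RΓ (pullback (pullback.snd a b) (Y.fromSpecResidueField y))).obj ((DCoh.Lpull (pullback.fst (pullback.snd a b) (Y.fromSpecResidueField y))).obj
          ((DCoh.LTensorCx P).obj ((DCoh.Lpull (pullback.fst a b)).obj (DCoh.toD X F)))))) →
      ((i - k' : ℕ) : WithBot ℕ∞) ≤ ringKrullDim ↑(Y.presheaf.stalk y)) := by
  haveI := fun y : ↥Y => Groth.L00.KFlat.hasLpull (Y.fromSpecResidueField y)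
  haveI : IsLocallyNoetherian Y := LocallyOfFiniteType.isLocallyNoetherian b
  haveI := Groth.L10.FMBC.lfp_of_noetherian a
  have hΦ : DCoh.IsPerfect ((FMK.phi a b P).obj (DCoh.toD X F)) :=
    Groth.L10.FMBC.isPerfect_phi a b P hP _ hF
  constructor
  · intro h i y hne
    obtain ⟨e⟩ := nonempty_fibre_iso k X Y a b P hP y F hF (i : ℤ)
    by_contra hdim
    refine hne ((Functor.map_isZero _ (isZero_fibre_of_notMem _ hΦ y i fun j hj hmem => hdim ?_)).of_iso e)
    obtain ⟨j, rfl⟩ : ∃ j' : ℕ, j = j' := ⟨j.toNat, by omega⟩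
    refine le_trans ?_ (h j y hmem)
    have : i - k' ≤ j - k' := by omega
    exact_mod_cast this
  · intro h i y hy
    refine h i y fun hz => notMem_of_isZero_fibre _ hΦ y i ?_ hy
    obtain ⟨e⟩ := nonempty_fibre_iso k X Y a b P hP y F hF (i : ℤ)
    exact hz.of_iso e.symm

end Groth.L10.FMK
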