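import Groth.Agent.L10.FMK.Basic
import Groth.Agent.L10.FMK.Twist
import Groth.Agent.L10.FMBC.Equiv

/-!
Vanishing of the cohomology of a transform, tested by high twists.
-/

set_option autoImplicit false
set_option linter.style.haveILetI false
set_option backward.defeqAttrib.useBackward true
set_option backward.isDefEq.respectTransparency false
set_option backward.isDefEq.respectTransparency.types false

universe u

open CategoryTheory CategoryTheory.Limits AlgebraicGeometry

attribute [local instance] HasDerivedCategory.standard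

namespace Groth.L10.FMK

open Groth.L29.DC Groth.Lead

theorem exists_bound_phi (k : Type u) [Field k]
    (X Y : Scheme.{u}) (a : X ⟶ Spec (CommRingCat.of k)) (b : Y ⟶ Spec (CommRingCat.of k)) [IsProper a] [IsProper b]
    (P : CochainComplex (pullback a b).Modules ℤ) (hP : DCoh.IsPerfect (DCoh.toD (pullback a b) P))
    [DCoh.HasLpull (pullback.fst a b)] [DCoh.HasLpull (pullback.snd a b)] [DCoh.HasLTensorCx P]
    [DCoh.HasRpush (pullback.fst a b)] [DCoh.HasRpush (pullback.snd a b)] [DCoh.HasRΓ X]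
    (L : Y.Modules) (hL : CohB1.IsAmple L)
    (F : CochainComplex X.Modules ℤ) (hF : DCoh.IsPerfect (DCoh.toD X F)) [DCoh.HasLTensorCx F] :
    ∃ n₀ : ℕ, ∀ n : ℕ, n₀ ≤ n → ∀ i : ℤ,
      (IsZero (DCoh.HD ((FMK.phi a b P).obj (DCoh.toD X F)) i) ↔
        IsZero ((DerivedCategory.homologyFunctor AddCommGrpCat.{u} i).obj ((DCoh.RΓ X).obj
          ((DCoh.LTensorCx F).obj ((DCoh.Lpull (pullback.snd a b) ⋙ DCoh.LTensorCx P ⋙ DCoh.Rpush (pullback.fst a b)).obj (DCoh.inD Y (CohB1.tensorPow L n))))))) := by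
  haveI := fun {V : Scheme.{u}} (E : CochainComplex V.Modules ℤ) => Groth.L00.KFlat.hasLTensorCx E
  haveI := QRlim.enoughKInj Y
  haveI : DCoh.HasRΓ Y := Groth.L10.KInjDerived.hasRightDerivedFunctor _
  haveI : Flat a := inferInstance
  haveI := Groth.L10.FMBC.lfp_of_noetherian a
  have hΦ : DCoh.IsPerfect ((FMK.phi a b P).obj (DCoh.toD X F)) :=
    Groth.L10.FMBC.isPerfect_phi a b P hP _ hF
  obtain ⟨n₀, hn₀⟩ := exists_twist_bound b hL ((FMK.phi a b P).obj (DCoh.toD X F)) hΦ
  refine ⟨n₀, fun n hn i => (hn₀ n hn i).trans ?_⟩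
  have hA : PicF.IsInvertible (CohB1.tensorPow L n) := Groth.L18.Ample.isInvertible_tensorPow hL.1 n
  let s := (DerivedCategory.singleFunctorIsoCompQ Y.Modules 0).app (CohB1.tensorPow L n)
  obtain ⟨p⟩ := nonempty_psi_phi a b P F hF (LTMod.S0 (CohB1.tensorPow L n))
    (isPerfect_of_iso s (PCProj.isPerfect_inD (Groth.L16.Existence.isFinLocFree_of_isInvertible hA)))
  let e := (DerivedCategory.homologyFunctor AddCommGrpCat.{u} i).mapIso ((DCoh.RΓ X).mapIso
    ((DCoh.LTensorCx F).mapIso ((DCoh.Lpull (pullback.snd a b) ⋙ DCoh.LTensorCx P ⋙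
      DCoh.Rpush (pullback.fst a b)).mapIso s)) ≪≫ p)
  exact ⟨fun h => h.of_iso e, fun h => h.of_iso e.symm⟩

end Groth.L10.FMK
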